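import Cfsg.Agent.H680.Six.Common
import Cfsg.Agent.H680.Six.Card
import Cfsg.Agent.H202.T.Psl2

/-!
# Elimination of `PSL₂(v)`, `v` odd, in characteristic 2 (helper680)
-/

set_option autoImplicit false

namespace Cfsg.Agent.H680.Six

open Cfsg.Agent.H376.Six

universe u v

theorem form1 {q : ℕ} (hq : 2 ≤ q) (h3 : q % 3 = 1) : 3 * ap q = q * q + q + 1 ∧ am q + q = q * q + 1 := by
  have h1 := (ap_spec hq).1
  have h2 := (am_spec hq).1
  rw [Nat.gcd_eq_left (show 3 ∣ q - 1 by omega)] at h1
  rw [(Nat.Prime.coprime_iff_not_dvd Nat.prime_three).2 (show ¬ 3 ∣ q + 1 by omega), mul_one] at h2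
  have h5 : q ≤ q ^ 2 := by nlinarith
  rw [← pow_two]
  omega

theorem form2 {q : ℕ} (hq : 2 ≤ q) (h3 : q % 3 = 2) : ap q = q * q + q + 1 ∧ 3 * am q + q = q * q + 1 := by
  have h1 := (ap_spec hq).1
  have h2 := (am_spec hq).1
  rw [Nat.gcd_eq_left (show 3 ∣ q + 1 by omega)] at h2
  rw [(Nat.Prime.coprime_iff_not_dvd Nat.prime_three).2 (show ¬ 3 ∣ q - 1 by omega), mul_one] at h1
  have h5 : q ≤ q ^ 2 := by nlinarith
  rw [← pow_two]
  omega

theorem pow_lt {m c : ℕ} (h : 2 ^ m < 2 ^ c) : m < c := (Nat.pow_lt_pow_iff_right (by norm_num)).1 h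

theorem mod3 {m : ℕ} : 2 ^ m % 3 = 1 ∨ 2 ^ m % 3 = 2 := by
  induction m with
  | zero => left; norm_num
  | succ k ih =>
    rw [pow_succ]
    omega

/-- `am q = u`, `ap q ∣ T = (v ∓ 1) / 2 ∣ q ^ 3 - 1` -/
theorem arith_minus {m q v k : ℕ} (hm : 2 ≤ m) (hqm : q = 2 ^ m) (hk : 1 ≤ k) {T : ℕ}
    (hv : v = am q ^ k) (hT : 2 * T + 1 = v ∨ 2 * T = v + 1) (hB : ap q ∣ T) (hC : T ∣ q ^ 3 - 1) :
    q = 4 ∧ v = 13 := by
  have hq4 : 4 ≤ q := by
    rw [hqm]
    calc 4 = 2 ^ 2 := by norm_num
      _ ≤ 2 ^ m := Nat.pow_le_pow_right (by norm_num) hm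
  have hq : 2 ≤ q := by omega
  have hT0 : 0 < T := by
    rcases Nat.eq_zero_or_pos T with h0 | h0
    · exfalso
      subst h0
      have h1 := am_gt hq4
      have h2 : 1 < v := by
        rw [hv]
        exact Nat.one_lt_pow (by omega) h1
      omega
    · exact h0
  have hle := Nat.le_of_dvd hT0 hB
  have hcube : 64 ≤ q ^ 3 := by
    calc 64 = 4 ^ 3 := by norm_num
      _ ≤ q ^ 3 := Nat.pow_le_pow_left hq4 3
  have hle2 := Nat.le_of_dvd (by omega) hC
  rcases Nat.lt_or_ge k 2 with h2 | h2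
  · obtain rfl : k = 1 := by omega
    rw [pow_one] at hv
    rcases (mod3 (m := m)) with h3 | h3
    · rw [← hqm] at h3
      obtain ⟨ha, hb⟩ := form1 hq h3
      rcases hT with hT | hT
      · -- `2 T = am - 1 = q (q - 1)`
        exfalso
        obtain ⟨r, hr, hrd⟩ := Nat.exists_prime_and_dvd (show ap q ≠ 1 by have := ap_gt hq4; omega)
        have h4 : 2 * T + q = q * q := by omega
        have h5 : r ∣ q * q - q := by
          rw [← h4, Nat.add_sub_cancel]
          exact (hrd.trans hB).mul_left 2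
        have h6 : q * q - q = q * (q - 1) := by rw [Nat.mul_sub, mul_one]
        rw [h6] at h5
        rcases hr.dvd_mul.1 h5 with h7 | h7
        · exact (ap_ne hq hr hrd).2.2 h7
        · exact ap_prime hq hr hrd (h7.trans (one_dvd_pow q).1)
      · -- `2 T = am + 1 = q² - q + 2`
        have h4 : 2 * T + q = q * q + 2 := by omega
        have h5 : ap q ∣ 2 * q - 1 := by
          have h6 : 2 * q - 1 = 3 * ap q - 2 * T := by omega
          rw [h6]
          exact Nat.dvd_sub (Dvd.intro_left 3 rfl) (hB.mul_left 2)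
        have h6 := Nat.le_of_dvd (by omega) h5
        have h7 : q * q + q + 1 ≤ 6 * q - 3 := by omega
        have h8 : q ≤ 4 := by
          by_contra hc
          push Not at hc
          have : 5 * q ≤ q * q := Nat.mul_le_mul_right q hc
          omega
        have h9 : q = 4 := by omega
        refine ⟨h9, ?_⟩
        rw [h9] at hb
        omega
    · exfalso
      rw [← hqm] at h3
      obtain ⟨ha, hb⟩ := form2 hq h3
      omega
  · exfalso
    have hsq : am q ^ 2 ≤ v := by
      rw [hv]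
      exact Nat.pow_le_pow_right (by have := am_gt hq4; omega) h2
    have hb2 : am q ^ 2 ≤ 2 * q ^ 3 - 1 := by omega
    rcases (mod3 (m := m)) with h3 | h3
    · rw [← hqm] at h3
      obtain ⟨ha, hb⟩ := form1 hq h3
      obtain ⟨j, rfl⟩ : ∃ j, q = j + 4 := ⟨q - 4, by omega⟩
      have hb' : am (j + 4) = j * j + 7 * j + 13 := by nlinarith
      rw [hb'] at hb2
      have h9 : (j * j + 7 * j + 13) ^ 2 + 1 ≤ 2 * (j + 4) ^ 3 := by omega
      nlinarith
    · rw [← hqm] at h3
      obtain ⟨ha, hb⟩ := form2 hq h3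
      have hm5 : m < 5 := by
        by_contra hc
        push Not at hc
        have hq32 : 32 ≤ q := by
          rw [hqm]
          calc 32 = 2 ^ 5 := by norm_num
            _ ≤ 2 ^ m := Nat.pow_le_pow_right (by norm_num) hc
        obtain ⟨j, rfl⟩ : ∃ j, q = j + 32 := ⟨q - 32, by omega⟩
        have hb' : 3 * am (j + 32) = j * j + 63 * j + 993 := by nlinarith
        have h9 : (3 * am (j + 32)) ^ 2 + 9 ≤ 18 * (j + 32) ^ 3 := by
          rw [mul_pow]
          omega
        rw [hb'] at h9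
        nlinarith
      have hm3 : m = 3 := by
        interval_cases m <;> simp_all
      subst hm3
      have hq8 : q = 8 := by rw [hqm]; norm_num
      subst hq8
      have ham : am 8 = 19 := by norm_num [am]
      have hap : ap 8 = 73 := by norm_num [ap]
      rw [ham] at hv
      rw [hap] at hB
      have h19 : 19 ∣ v := by
        rw [hv]
        exact dvd_pow_self 19 (by omega)
      have hC' : T ∣ 7 * 73 := by simpa using hC
      obtain ⟨c, hc⟩ := hB
      have hc7 : c ∣ 7 := by
        rw [hc] at hC'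
        exact (Nat.mul_dvd_mul_iff_right (show 0 < 73 by norm_num)).1 (by rwa [mul_comm] at hC')
      rcases (Nat.dvd_prime (by norm_num : (7 : ℕ).Prime)).1 hc7 with h7 | h7
      · subst h7
        omega
      · subst h7
        omega

/-- `ap q = u`, `am q ∣ T = (v ∓ 1) / 2 ∣ q ^ 3 + 1` : impossible -/
theorem arith_plus {m q v k : ℕ} (hm : 2 ≤ m) (hqm : q = 2 ^ m) (hk : 1 ≤ k) {T : ℕ}
    (hv : v = ap q ^ k) (hT : 2 * T + 1 = v ∨ 2 * T = v + 1) (hB : am q ∣ T) (hC : T ∣ q ^ 3 + 1) : False := by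
  have hq4 : 4 ≤ q := by
    rw [hqm]
    calc 4 = 2 ^ 2 := by norm_num
      _ ≤ 2 ^ m := Nat.pow_le_pow_right (by norm_num) hm
  have hq : 2 ≤ q := by omega
  have hT0 : 0 < T := by
    rcases Nat.eq_zero_or_pos T with h0 | h0
    · exfalso
      subst h0
      have h1 := ap_gt hq4
      have h2 : 1 < v := by
        rw [hv]
        exact Nat.one_lt_pow (by omega) h1
      omega
    · exact h0
  have hle := Nat.le_of_dvd hT0 hB
  have hle2 := Nat.le_of_dvd (by omega) hC
  rcases Nat.lt_or_ge k 2 with h2 | h2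
  · obtain rfl : k = 1 := by omega
    rw [pow_one] at hv
    rcases (mod3 (m := m)) with h3 | h3
    · rw [← hqm] at h3
      obtain ⟨ha, hb⟩ := form1 hq h3
      have h4 : 4 * q ≤ q * q := Nat.mul_le_mul_right q hq4
      omega
    · rw [← hqm] at h3
      obtain ⟨ha, hb⟩ := form2 hq h3
      rcases hT with hT | hT
      · -- `2 T = ap - 1 = q (q + 1)`
        obtain ⟨r, hr, hrd⟩ := Nat.exists_prime_and_dvd (show am q ≠ 1 by have := am_gt hq4; omega)
        have h4 : 2 * T = q * (q + 1) := by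
          have : q * (q + 1) = q * q + q := by ring
          omega
        have h5 : r ∣ q * (q + 1) := by
          rw [← h4]
          exact (hrd.trans hB).mul_left 2
        rcases hr.dvd_mul.1 h5 with h7 | h7
        · exact (am_ne hq hr hrd).2.2 h7
        · exact am_prime hq hr hrd (h7.trans (add_one_dvd q))
      · have h4 : 2 * T = q * q + q + 2 := by omega
        have h5 : am q ∣ 2 * q + 1 := by
          have h6 : 2 * q + 1 = 2 * T - 3 * am q := by omega
          rw [h6]
          exact Nat.dvd_sub (hB.mul_left 2) (Dvd.intro_left 3 rfl)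
        have h6 := Nat.le_of_dvd (by omega) h5
        have h7 : q * q + 1 ≤ 7 * q + 3 := by omega
        have h8 : q < 8 := by
          by_contra hc
          push Not at hc
          have : 8 * q ≤ q * q := Nat.mul_le_mul_right q hc
          omega
        have hm3 : m < 3 := pow_lt (by rw [← hqm]; exact h8)
        obtain rfl : m = 2 := by omega
        norm_num at hqm
        omega
  · have hsq : ap q ^ 2 ≤ v := by
      rw [hv]
      exact Nat.pow_le_pow_right (by have := ap_gt hq4; omega) h2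
    have hb2 : ap q ^ 2 ≤ 2 * q ^ 3 + 3 := by omega
    rcases (mod3 (m := m)) with h3 | h3
    · rw [← hqm] at h3
      obtain ⟨ha, hb⟩ := form1 hq h3
      have hm4 : m < 4 := by
        by_contra hc
        push Not at hc
        have hq16 : 16 ≤ q := by
          rw [hqm]
          calc 16 = 2 ^ 4 := by norm_num
            _ ≤ 2 ^ m := Nat.pow_le_pow_right (by norm_num) hc
        obtain ⟨j, rfl⟩ : ∃ j, q = j + 16 := ⟨q - 16, by omega⟩
        have h9 : (3 * ap (j + 16)) ^ 2 ≤ 18 * (j + 16) ^ 3 + 27 := by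
          rw [mul_pow]
          omega
        rw [ha] at h9
        nlinarith
      have hm2 : m = 2 := by
        interval_cases m
        · rfl
        · norm_num at hqm
          omega
      subst hm2
      have hq4' : q = 4 := by rw [hqm]; norm_num
      subst hq4'
      have ham : am 4 = 13 := by norm_num [am]
      have hap : ap 4 = 7 := by norm_num [ap]
      rw [hap] at hv
      rw [ham] at hB
      have h7 : 7 ∣ v := by
        rw [hv]
        exact dvd_pow_self 7 (by omega)
      have hC' : T ∣ 5 * 13 := by simpa using hC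
      obtain ⟨c, hc⟩ := hB
      have hc5 : c ∣ 5 := by
        rw [hc] at hC'
        exact (Nat.mul_dvd_mul_iff_right (show 0 < 13 by norm_num)).1 (by rwa [mul_comm] at hC')
      rcases (Nat.dvd_prime (by norm_num : (5 : ℕ).Prime)).1 hc5 with h5 | h5
      · subst h5
        omega
      · subst h5
        omega
    · rw [← hqm] at h3
      obtain ⟨ha, hb⟩ := form2 hq h3
      rw [ha] at hb2
      obtain ⟨j, rfl⟩ : ∃ j, q = j + 4 := ⟨q - 4, by omega⟩
      nlinarith

section main

variable {F : Type v} [Field F] [Fintype F] {S : Type u} [Group S] {q : ℕ}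

/-- the element orders of `S ≃* PSL₂(v)`, `v` odd -/
theorem psl2_ord (e : S ≃* Matrix.ProjectiveSpecialLinearGroup (Fin 2) F) (ho : Odd (Fintype.card F))
    (h4 : 4 ≤ Fintype.card F) (w : ℕ) [Fact w.Prime] [CharP F w] (n : ℕ) : (∃ x : S, orderOf x = n) ↔
      (n ∣ w ∨ n ∣ (Fintype.card F - 1) / 2 ∨ n ∣ (Fintype.card F + 1) / 2) := by
  have h1 := H202.T.psl2_orders (F := F) (v := w) rfl h4 n
  obtain ⟨k, hk⟩ := ho
  rw [Nat.gcd_eq_left (show 2 ∣ Fintype.card F - 1 by omega)] at h1
  rw [← h1]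
  constructor
  · rintro ⟨x, hx⟩
    exact ⟨e x, by rw [e.orderOf_eq, hx]⟩
  · rintro ⟨x, hx⟩
    exact ⟨e.symm x, by rw [e.symm.orderOf_eq, hx]⟩

theorem psl2_card' (e : S ≃* Matrix.ProjectiveSpecialLinearGroup (Fin 2) F) (ho : Odd (Fintype.card F)) :
    2 * Nat.card S = Fintype.card F * (Fintype.card F ^ 2 - 1) := by
  have h1 := psl2_card (F := F)
  obtain ⟨k, hk⟩ := ho
  rwa [Nat.gcd_eq_left (show 2 ∣ Fintype.card F - 1 by omega), ← Nat.card_congr e.toEquiv] at h1

/-- the primes of a group whose order divides a number -/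
theorem few_of_dvd (h : E2 q S) {P : ℕ} (hP : P.Prime) {a b c : ℕ} (hd : Nat.card S ∣ 2 ^ a * (3 ^ b * P ^ c)) :
    False := by
  refine few h (P := P) fun p hp hpd => ?_
  rcases hp.dvd_mul.1 (hpd.trans hd) with h1 | h1
  · exact Or.inl ((Nat.prime_dvd_prime_iff_eq hp Nat.prime_two).1 (hp.dvd_of_dvd_pow h1))
  · rcases hp.dvd_mul.1 h1 with h2 | h2
    · exact Or.inr (Or.inl ((Nat.prime_dvd_prime_iff_eq hp Nat.prime_three).1 (hp.dvd_of_dvd_pow h2)))
    · exact Or.inr (Or.inr ((Nat.prime_dvd_prime_iff_eq hp hP).1 (hp.dvd_of_dvd_pow h2)))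

theorem few57_of_dvd (h : E2 q S) {a b c d : ℕ} (hd : Nat.card S ∣ 2 ^ a * (3 ^ b * (5 ^ c * 7 ^ d))) : False := by
  refine few57 h fun p hp hpd => ?_
  rcases hp.dvd_mul.1 (hpd.trans hd) with h1 | h1
  · exact Or.inl ((Nat.prime_dvd_prime_iff_eq hp Nat.prime_two).1 (hp.dvd_of_dvd_pow h1))
  · rcases hp.dvd_mul.1 h1 with h2 | h2
    · exact Or.inr (Or.inl ((Nat.prime_dvd_prime_iff_eq hp Nat.prime_three).1 (hp.dvd_of_dvd_pow h2)))
    · rcases hp.dvd_mul.1 h2 with h3 | h3
      · exact Or.inr (Or.inr (Or.inl ((Nat.prime_dvd_prime_iff_eq hp (by norm_num)).1 (hp.dvd_of_dvd_pow h3))))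
      · exact Or.inr (Or.inr (Or.inr ((Nat.prime_dvd_prime_iff_eq hp (by norm_num)).1 (hp.dvd_of_dvd_pow h3))))

/-- **`PSL₂(v)`, `v` odd** : `q = 4`, `v = 13` -/
theorem psl_two' (e : S ≃* Matrix.ProjectiveSpecialLinearGroup (Fin 2) F) (ho : Odd (Fintype.card F))
    (h4 : 4 ≤ Fintype.card F) (h : E2 q S) : q = 4 ∧ Fintype.card F = 13 := by
  obtain ⟨w, _⟩ := CharP.exists F
  haveI : Fact w.Prime := ⟨CharP.char_is_prime F w⟩
  obtain ⟨n, hw, hn⟩ := FiniteField.card F w
  have hq4 := four_le h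
  have hq := two_le h
  have hord := psl2_ord (S := S) e ho h4 w
  have hcard := psl2_card' e ho
  generalize Fintype.card F = V at *
  have hn1 : 1 ≤ (n : ℕ) := n.one_le
  have hw2 : ¬ 2 ∣ w := by
    intro h2
    have h3 : 2 ∣ V := by
      rw [hn]
      exact h2.trans (dvd_pow_self w (by omega))
    obtain ⟨k, hk⟩ := ho
    omega
  obtain ⟨k, hk⟩ := ho
  rcases h.eight with ⟨hap, ham⟩ | h8
  · -- `T` : the odd one of `(V - 1) / 2`, `(V + 1) / 2`
    have key : ∃ T, (2 * T + 1 = V ∨ 2 * T = V + 1) ∧ (∃ x : S, orderOf x = T) ∧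
        (ap q = w ∨ ap q ∣ T) ∧ (am q = w ∨ am q ∣ T) := by
      have hA : ∃ x : S, orderOf x = (V - 1) / 2 := (hord _).2 (Or.inr (Or.inl dvd_rfl))
      have hB : ∃ x : S, orderOf x = (V + 1) / 2 := (hord _).2 (Or.inr (Or.inr dvd_rfl))
      have no : ∀ T : ℕ, (∃ x : S, orderOf x = T) → 2 ∣ T → ¬ ap q ∣ T ∧ ¬ am q ∣ T := by
        rintro T ⟨x, hx⟩ h2
        obtain ⟨r, hr, hrd⟩ := exists_r h
        obtain ⟨s, hs, hsd⟩ := exists_s h
        refine ⟨fun h' => ap_not_two h hr hrd x (hx ▸ hrd.trans h') (hx ▸ h2),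
          fun h' => am_not_two h hs hsd x (hx ▸ hsd.trans h') (hx ▸ h2)⟩
      have hap' := (hord _).1 hap
      have ham' := (hord _).1 ham
      have hap1 : ap q ≠ 1 := by have := ap_gt hq4; omega
      have ham1 : am q ≠ 1 := by have := am_gt hq4; omega
      rcases Nat.even_or_odd' ((V - 1) / 2) with ⟨j, hj | hj⟩
      · refine ⟨(V + 1) / 2, Or.inr (by omega), hB, ?_, ?_⟩
        · rcases hap' with h1 | h1 | h1
          · exact Or.inl (((Nat.dvd_prime hw).1 h1).resolve_left hap1)
          · exact absurd h1 (no _ hA ⟨j, hj⟩).1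
          · exact Or.inr h1
        · rcases ham' with h1 | h1 | h1
          · exact Or.inl (((Nat.dvd_prime hw).1 h1).resolve_left ham1)
          · exact absurd h1 (no _ hA ⟨j, hj⟩).2
          · exact Or.inr h1
      · refine ⟨(V - 1) / 2, Or.inl (by omega), hA, ?_, ?_⟩
        · rcases hap' with h1 | h1 | h1
          · exact Or.inl (((Nat.dvd_prime hw).1 h1).resolve_left hap1)
          · exact Or.inr h1
          · exact absurd h1 (no _ hB ⟨j + 1, by omega⟩).1
        · rcases ham' with h1 | h1 | h1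
          · exact Or.inl (((Nat.dvd_prime hw).1 h1).resolve_left ham1)
          · exact Or.inr h1
          · exact absurd h1 (no _ hB ⟨j + 1, by omega⟩).2
    obtain ⟨T, hT, ⟨x, hx⟩, h1, h2⟩ := key
    obtain ⟨m, hm, hqm⟩ := h.pow
    obtain ⟨r, hr, hrd⟩ := exists_r h
    obtain ⟨s, hs, hsd⟩ := exists_s h
    rcases h1 with h1 | h1
    · rcases h2 with h2 | h2
      · exact absurd rfl (r_ne_s h hr hrd (by rw [h2, ← h1]; exact hrd))
      · exfalso
        have hC := am_ub h hs hsd x (by rw [hx]; exact hsd.trans h2)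
        rw [hx] at hC
        exact arith_plus hm hqm hn1 (by rw [h1]; exact hn) hT h2 hC
    · rcases h2 with h2 | h2
      · have hC := ap_ub h hr hrd x (by rw [hx]; exact hrd.trans h1)
        rw [hx] at hC
        exact arith_minus hm hqm hn1 (by rw [h2]; exact hn) hT h1 hC
      · exact (ap_not_am h hr hrd hs hsd x (by rw [hx]; exact hrd.trans h1) (by rw [hx]; exact hsd.trans h2)).elim
  · exfalso
    have h17 : V = 17 ∨ V = 15 := by
      rcases (hord 8).1 h8 with h1 | h1 | h1
      · exact absurd ((by norm_num : 2 ∣ 8).trans h1) hw2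
      · obtain ⟨x, hx⟩ := (hord ((V - 1) / 2)).2 (Or.inr (Or.inl dvd_rfl))
        have h3 := eight_of h x (by rw [hx]; exact h1)
        omega
      · obtain ⟨x, hx⟩ := (hord ((V + 1) / 2)).2 (Or.inr (Or.inr dvd_rfl))
        have h3 := eight_of h x (by rw [hx]; exact h1)
        omega
    rcases h17 with h17 | h17
    · subst h17
      have h5 : Nat.card S = 2448 := by omega
      exact few_of_dvd h (P := 17) (by norm_num) (a := 4) (b := 2) (c := 1) (by rw [h5]; norm_num)
    · subst h17
      have h3 : w = 3 := by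
        have h6 : 3 ∣ w ^ (n : ℕ) := by rw [← hn]; norm_num
        exact ((Nat.prime_dvd_prime_iff_eq Nat.prime_three hw).1 (Nat.prime_three.dvd_of_dvd_pow h6)).symm
      have h5 : w = 5 := by
        have h6 : 5 ∣ w ^ (n : ℕ) := by rw [← hn]; norm_num
        exact ((Nat.prime_dvd_prime_iff_eq (by norm_num) hw).1 (Nat.Prime.dvd_of_dvd_pow (by norm_num) h6)).symm
      omega

/-- **`PSL₂(v)`, `v` odd** : `q = 4`, `v = 13` -/
theorem psl_two (ho : Odd (Fintype.card F)) (h4 : 4 ≤ Fintype.card F)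
    (h : E2 q (Matrix.ProjectiveSpecialLinearGroup (Fin 2) F)) : q = 4 ∧ Fintype.card F = 13 :=
  psl_two' (MulEquiv.refl _) ho h4 h

/-- `S` not of order `1092` : `ap q` and `am q` are element orders -/
theorem main_of (h : E2 q S) (hne : Nat.card S ≠ 1092) :
    (∃ x : S, orderOf x = ap q) ∧ (∃ x : S, orderOf x = am q) := by
  rcases h.main with h1 | ⟨h1, h2, -⟩
  · exfalso
    rcases h1 with ⟨⟨e⟩⟩ | ⟨F, _, _, ho, ⟨e⟩⟩
    · have h5 : Nat.card S = 2520 := by
        rw [Nat.card_congr e.toEquiv, nat_card_alternatingGroup]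
        simp [Nat.factorial]
      exact few57_of_dvd h (a := 3) (b := 2) (c := 1) (d := 1) (by rw [h5]; norm_num)
    · rcases Nat.lt_or_ge (Fintype.card F) 4 with h4 | h4
      · have h5 := psl2_card' e ho
        have h6 : 1 < Fintype.card F := Fintype.one_lt_card
        obtain ⟨k, hk⟩ := ho
        have h7 : Fintype.card F = 3 := by omega
        rw [h7] at h5
        have h8 : Nat.card S = 12 := by omega
        exact few_of_dvd h (P := 17) (by norm_num) (a := 4) (b := 2) (c := 1) (by rw [h8]; norm_num)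
      · obtain ⟨-, h5⟩ := psl_two' e ho h4 h
        have h6 := psl2_card' e ho
        rw [h5] at h6
        omega
  · exact ⟨h1, h2⟩

end main

end Cfsg.Agent.H680.Six
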