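import Cfsg.Agent.H680.Six.PslTwo
import Cfsg.Agent.S2476
import Cfsg.Agent.H127.PSUThreeEx
import Cfsg.Agent.H377.SpElt
import Cfsg.Agent.S0246

/-!
# Elimination of `PSL₃(v)`, `PSU₃(v)`, `PSp₄(v)`, `v` odd, in characteristic 2 (helper680)
-/

set_option autoImplicit false

namespace Cfsg.Agent.H680.Six

open Cfsg Cfsg.Agent.H376.Six

universe u v

variable {F : Type v} [Field F] [Fintype F] {S : Type u} [Group S] {q : ℕ}

/-- `8 ∣ V ^ 2 - 1` -/
theorem eight_dvd {V : ℕ} (ho : Odd V) : 8 ∣ V ^ 2 - 1 := by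
  obtain ⟨k, rfl⟩ := ho
  have h1 : (2 * k + 1) ^ 2 - 1 = 4 * (k * (k + 1)) := by
    have : (2 * k + 1) ^ 2 = 4 * (k * (k + 1)) + 1 := by ring
    rw [this, Nat.add_sub_cancel]
  rw [h1]
  obtain ⟨j, hj⟩ := (Nat.even_mul_succ_self k).two_dvd
  rw [hj]
  exact ⟨j, by ring⟩

theorem eight_dvd_div {V d : ℕ} (ho : Odd V) (hd : d ∣ 3) (hdv : d ∣ V ^ 2 - 1) : 8 ∣ (V ^ 2 - 1) / d := by
  have hd0 : 0 < d := Nat.pos_of_dvd_of_pos hd (by norm_num)
  have hc : Nat.Coprime 8 d := Nat.Coprime.coprime_dvd_right hd (by norm_num)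
  apply hc.dvd_of_dvd_mul_left
  rw [Nat.mul_div_cancel' hdv]
  exact eight_dvd ho

theorem of_eight {V d : ℕ} (hV : 2 ≤ V) (hd : d ∣ 3) (hdv : d ∣ V ^ 2 - 1) (h : (V ^ 2 - 1) / d = 8) :
    (V = 3 ∧ d = 1) ∨ (V = 5 ∧ d = 3) := by
  have hd0 : 0 < d := Nat.pos_of_dvd_of_pos hd (by norm_num)
  obtain ⟨c, hc⟩ := hdv
  rw [hc, Nat.mul_div_cancel_left _ hd0] at h
  have h1 : 1 ≤ V ^ 2 := Nat.one_le_pow _ _ (by omega)
  rcases (Nat.dvd_prime Nat.prime_three).1 hd with h2 | h2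
  · left
    rw [h2, h] at hc
    have : V ^ 2 = 9 := by omega
    have h3 : V < 4 := by nlinarith
    interval_cases V <;> simp_all
  · right
    rw [h2, h] at hc
    have : V ^ 2 = 25 := by omega
    have h3 : V < 6 := by nlinarith
    interval_cases V <;> simp_all

theorem psl_three' (e : S ≃* Matrix.ProjectiveSpecialLinearGroup (Fin 3) F) (ho : Odd (Fintype.card F))
    (h : E2 q S) : False := by
  obtain ⟨w, _⟩ := CharP.exists F
  have : Fact w.Prime := ⟨CharP.char_is_prime F w⟩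
  have hV : 1 < Fintype.card F := Fintype.one_lt_card
  have hdv : Nat.gcd 3 (Fintype.card F - 1) ∣ Fintype.card F ^ 2 - 1 :=
    (Nat.gcd_dvd_right _ _).trans (by simpa using Nat.sub_dvd_pow_sub_pow (Fintype.card F) 1 2)
  have h1 : (Fintype.card F ^ 2 - 1) / Nat.gcd 3 (Fintype.card F - 1) ∈
      Set.range (orderOf : Matrix.ProjectiveSpecialLinearGroup (Fin 3) F → ℕ) := by
    rw [S2476.result w]
    exact Or.inr (Or.inl dvd_rfl)
  obtain ⟨x, hx⟩ := h1
  have hx' : orderOf (e.symm x) = (Fintype.card F ^ 2 - 1) / Nat.gcd 3 (Fintype.card F - 1) := by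
    rw [e.symm.orderOf_eq, hx]
  have h2 := eight_of h (e.symm x) (by rw [hx']; exact eight_dvd_div ho (Nat.gcd_dvd_left _ _) hdv)
  rw [hx'] at h2
  have hc := psl3_card (F := F)
  rw [← Nat.card_congr e.toEquiv] at hc
  rcases of_eight (by omega) (Nat.gcd_dvd_left _ _) hdv h2 with ⟨h3, h4⟩ | ⟨h3, h4⟩
  · rw [h4, h3] at hc
    have h5 : Nat.card S = 5616 := by omega
    exact few_of_dvd h (P := 13) (by norm_num) (a := 4) (b := 3) (c := 1) (by rw [h5]; norm_num)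
  · rw [h3] at h4
    norm_num at h4

theorem psl_three (ho : Odd (Fintype.card F)) (h : E2 q (Matrix.ProjectiveSpecialLinearGroup (Fin 3) F)) : False :=
  psl_three' (MulEquiv.refl _) ho h

theorem psu_three' {v : ℕ} (hF : Fintype.card F = v ^ 2) (e : S ≃* PSU 3 F v) (ho : Odd v) (hv : 3 ≤ v)
    (h : E2 q S) : False := by
  have hdv : Nat.gcd 3 (v + 1) ∣ v ^ 2 - 1 := by
    have h0 : v ^ 2 - 1 = (v + 1) * (v - 1) := by
      rw [← Nat.sq_sub_sq, one_pow]
    rw [h0]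
    exact (Nat.gcd_dvd_right _ _).mul_right _
  obtain ⟨x, hx⟩ := H127.PSUThreeEx.ex_three hF _ (dvd_refl ((v ^ 2 - 1) / Nat.gcd 3 (v + 1)))
  have hx' : orderOf (e.symm x) = (v ^ 2 - 1) / Nat.gcd 3 (v + 1) := by
    rw [e.symm.orderOf_eq, hx]
  have h2 := eight_of h (e.symm x) (by rw [hx']; exact eight_dvd_div ho (Nat.gcd_dvd_left _ _) hdv)
  rw [hx'] at h2
  have hc := psu3_card hF
  rw [← Nat.card_congr e.toEquiv] at hc
  rcases of_eight (by omega) (Nat.gcd_dvd_left _ _) hdv h2 with ⟨h3, h4⟩ | ⟨h3, h4⟩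
  · rw [h4, h3] at hc
    have h5 : Nat.card S = 6048 := by omega
    exact few_of_dvd h (P := 7) (by norm_num) (a := 5) (b := 3) (c := 1) (by rw [h5]; norm_num)
  · rw [h4, h3] at hc
    have h5 : Nat.card S = 126000 := by omega
    exact few57_of_dvd h (a := 4) (b := 2) (c := 3) (d := 1) (by rw [h5]; norm_num)

theorem psu_three {v : ℕ} (hF : Fintype.card F = v ^ 2) (ho : Odd v) (hv : 3 ≤ v) (h : E2 q (PSU 3 F v)) :
    False := psu_three' hF (MulEquiv.refl _) ho hv h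

/-! ### `PSp₄(v)` -/

open Cfsg.Agent.H94.PG in
theorem adj_order {G : Type*} [Group G] {a b : ℕ} (h : Adj G a b) : ∃ x : G, orderOf x = a * b := by
  obtain ⟨ha, hb, hab, x, y, hx, hy, hc⟩ := h
  refine ⟨x * y, ?_⟩
  rw [hc.orderOf_mul_eq_mul_orderOf_of_coprime (by rw [hx, hy]; exact (Nat.coprime_primes ha hb).2 hab), hx, hy]

/-- the prime divisors of `ap q` and `am q` are not adjacent to `2`, nor to each other -/
theorem not_adj_ap (h : E2 q S) {r : ℕ} (hr : r.Prime) (hd : r ∣ ap q) : ¬ Cfsg.Agent.H94.PG.Adj S r 2 := by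
  intro ha
  obtain ⟨x, hx⟩ := adj_order ha
  exact ap_not_two h hr hd x (hx ▸ dvd_mul_right _ _) (hx ▸ dvd_mul_left _ _)

theorem not_adj_am (h : E2 q S) {r : ℕ} (hr : r.Prime) (hd : r ∣ am q) : ¬ Cfsg.Agent.H94.PG.Adj S r 2 := by
  intro ha
  obtain ⟨x, hx⟩ := adj_order ha
  exact am_not_two h hr hd x (hx ▸ dvd_mul_right _ _) (hx ▸ dvd_mul_left _ _)

theorem not_adj_ap_am (h : E2 q S) {r s : ℕ} (hr : r.Prime) (hd : r ∣ ap q) (hs : s.Prime) (hd' : s ∣ am q) :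
    ¬ Cfsg.Agent.H94.PG.Adj S r s := by
  intro ha
  obtain ⟨x, hx⟩ := adj_order ha
  exact ap_not_am h hr hd hs hd' x (hx ▸ dvd_mul_right _ _) (hx ▸ dvd_mul_left _ _)

theorem dvd_card {r n : ℕ} (hd : r ∣ n) (hx : ∃ x : S, orderOf x = n) : r ∣ Nat.card S := by
  obtain ⟨x, rfl⟩ := hx
  exact hd.trans (orderOf_dvd_natCard x)

theorem psp2_card : Nat.gcd 2 (Fintype.card F - 1) * Nat.card (PSp 2 F) =
    Fintype.card F ^ 4 * ((Fintype.card F ^ 2 - 1) * (Fintype.card F ^ 4 - 1)) := by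
  have h1 := S0245.result (F := F) rfl 2
  have h2 := S0246.result (F := F) rfl 2 (by norm_num)
  have h3 := Subgroup.card_eq_card_quotient_mul_card_subgroup
    (Subgroup.center (Matrix.symplecticGroup (Fin 2) F))
  rw [h1, h2, Finset.prod_range_succ, Finset.prod_range_one] at h3
  rw [mul_comm]
  exact h3.symm

theorem psp_two (ho : Odd (Fintype.card F)) (h : E2 q (PSp 2 F)) : False := by
  have hV : 1 < Fintype.card F := Fintype.one_lt_card
  have hc := psp2_card (F := F)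
  have hne : Nat.card (PSp 2 F) ≠ 1092 := by
    intro h9
    obtain ⟨k, hk⟩ := ho
    rw [Nat.gcd_eq_left (show 2 ∣ Fintype.card F - 1 by omega), h9] at hc
    have h3 : 3 ≤ Fintype.card F := by omega
    have h4 : 3 ^ 4 ≤ Fintype.card F ^ 4 := Nat.pow_le_pow_left h3 4
    have h5 : 3 ^ 2 ≤ Fintype.card F ^ 2 := Nat.pow_le_pow_left h3 2
    have h6 : 8 * 80 ≤ (Fintype.card F ^ 2 - 1) * (Fintype.card F ^ 4 - 1) := Nat.mul_le_mul (by omega) (by omega)
    have h7 := Nat.mul_le_mul h4 h6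
    omega
  obtain ⟨hap, ham⟩ := main_of h hne
  obtain ⟨r, hr, hrd⟩ := exists_r h
  obtain ⟨s, hs, hsd⟩ := exists_s h
  have hq := two_le h
  have hr2 := (ap_ne hq hr hrd).1
  have hs2 := (am_ne hq hs hsd).1
  have k1 := H377.psp_info (F := F) (m := 2) le_rfl hr hr2 (dvd_card hrd hap) (not_adj_ap h hr hrd)
  have k2 := H377.psp_info (F := F) (m := 2) le_rfl hs hs2 (dvd_card hsd ham) (not_adj_am h hs hsd)
  have k3 := H377.psp_adj_plus (F := F) (m := 2) (by norm_num) hr hs hr2 hs2 (r_ne_s h hr hrd hsd)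
    (k1.1.resolve_left (k1.2 1 le_rfl (by norm_num))) (k2.1.resolve_left (k2.2 1 le_rfl (by norm_num)))
  exact not_adj_ap_am h hr hrd hs hsd k3

end Cfsg.Agent.H680.Six
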